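import Groth.Agent.MultSchFac.Local
import Groth.Prelude.Def_W4c1extbt15Mult

/-! Factorisation of multilinear morphisms through quotients. -/

set_option linter.unusedSectionVars false

universe u v w

open CategoryTheory CategoryTheory.Limits MonoidalCategory CartesianMonoidalCategory MonObj AlgebraicGeometry

namespace Groth.Agent.MultSchFac

section Cat

variable {C : Type u} [Category.{v} C] [CartesianMonoidalCategory C] [BraidedCategory C] {M M' N T W : C}

theorem comp_tuple (f : W ⟶ T) {n : ℕ} (x : Fin n → (T ⟶ M)) :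
    f ≫ MultSch.tuple x = MultSch.tuple fun i => f ≫ x i := by
  induction n with
  | zero => exact toUnit_unique _ _
  | succ n ih => exact (comp_lift f _ _).trans (congrArg₂ (fun a b => lift a b) rfl (ih _))

/-- The coordinate projections. -/
def proj : {n : ℕ} → Fin n → (MultSch.pow M n ⟶ M)
  | 0, i => i.elim0
  | n + 1, i => Fin.cases (fst M (MultSch.pow M n)) (fun l => snd M (MultSch.pow M n) ≫ proj l) i

theorem tuple_proj {n : ℕ} (x : Fin n → (T ⟶ M)) (i : Fin n) : MultSch.tuple x ≫ proj i = x i := by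
  induction n with
  | zero => exact i.elim0
  | succ n ih =>
    refine Fin.cases ?_ (fun l => ?_) i
    · exact lift_fst _ _
    · show lift _ _ ≫ snd M (MultSch.pow M n) ≫ proj l = _
      rw [lift_snd_assoc]
      exact ih (fun i => x i.succ) l

theorem tuple_eta {n : ℕ} (g : T ⟶ MultSch.pow M n) : MultSch.tuple (fun i => g ≫ proj i) = g := by
  induction n with
  | zero => exact toUnit_unique _ _
  | succ n ih =>
    refine CartesianMonoidalCategory.hom_ext (X := M) (Y := MultSch.pow M n) _ _ ?_ ?_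
    · exact lift_fst _ _
    · refine (lift_snd _ _).trans ((congrArg MultSch.tuple (funext fun i => ?_)).trans (ih (g ≫ snd M (MultSch.pow M n))))
      exact (Category.assoc _ _ _).symm

/-- The power of a morphism. -/
def powMap (π : M ⟶ M') (n : ℕ) : MultSch.pow M n ⟶ MultSch.pow M' n :=
  MultSch.tuple fun i => proj i ≫ π

theorem tuple_powMap (π : M ⟶ M') {n : ℕ} (x : Fin n → (T ⟶ M)) :
    MultSch.tuple x ≫ powMap π n = MultSch.tuple fun i => x i ≫ π := by
  rw [powMap, comp_tuple]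
  exact congrArg MultSch.tuple (funext fun i => by rw [← Category.assoc, tuple_proj])

theorem tuple_inj {n : ℕ} {x y : Fin n → (T ⟶ M)} (h : MultSch.tuple x = MultSch.tuple y) : x = y :=
  funext fun i => by rw [← tuple_proj x i, h, tuple_proj]

variable [GrpObj M] [GrpObj N] [IsCommMonObj N] {n : ℕ} {φ : MultSch.pow M n ⟶ N}

theorem swap_inv (hmult : MultSch.IsMultilinear φ) (halt : MultSch.IsAlternating φ) {T : C}
    (x : Fin n → (T ⟶ M)) {i l : Fin n} (hil : i ≠ l) (y z : T ⟶ M) :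
    (MultSch.tuple (Function.update (Function.update x i y) l z) ≫ φ) *
      (MultSch.tuple (Function.update (Function.update x i z) l y) ≫ φ) = 1 := by
  let F := fun a b => MultSch.tuple (Function.update (Function.update x i a) l b) ≫ φ
  have h0 : ∀ a, F a a = 1 := fun a => halt T _ i l hil (by
    rw [Function.update_of_ne hil, Function.update_self, Function.update_self])
  have hr : ∀ a b b', F a (b * b') = F a b * F a b' := fun a b b' => hmult T _ l b b'
  have hl : ∀ a a' b, F (a * a') b = F a b * F a' b := fun a a' b => by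
    simp only [F, Function.update_comm hil]
    exact hmult T _ i a a'
  have h := h0 (y * z)
  rw [hl, hr, hr, h0, h0, _root_.one_mul, _root_.mul_one] at h
  exact h

theorem eq_one_of_image (hmult : MultSch.IsMultilinear φ) (halt : MultSch.IsAlternating φ) {M₁ : C} {j : M₁ ⟶ M}
    (hn : 1 ≤ n) (hvan : ∀ (T : C) (y : T ⟶ M₁) (x : Fin n → (T ⟶ M)), x ⟨0, hn⟩ = y ≫ j →
      MultSch.tuple x ≫ φ = 1)
    {T : C} (x : Fin n → (T ⟶ M)) (i : Fin n) (y : T ⟶ M₁) (hy : x i = y ≫ j) : MultSch.tuple x ≫ φ = 1 := by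
  by_cases hi : i = ⟨0, hn⟩
  · exact hvan T y x (hi ▸ hy)
  have h := swap_inv hmult halt x hi (x i) (x ⟨0, hn⟩)
  have h2 : MultSch.tuple (Function.update (Function.update x i (x ⟨0, hn⟩)) ⟨0, hn⟩ (x i)) ≫ φ = 1 :=
    hvan T y _ (by rw [Function.update_self, hy])
  rw [h2, _root_.mul_one, Function.update_eq_self, Function.update_eq_self] at h
  exact h

end Cat

section Scheme

variable {K : Precoverage Scheme.{u}} {S : Scheme.{u}} [(QuotSh.J K S).Subcanonical]
variable {M₁ M₂ M₃ N : Over S} [GrpObj M₁] [IsCommMonObj M₁] [GrpObj M₂] [IsCommMonObj M₂] [GrpObj M₃]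
  [IsCommMonObj M₃] [GrpObj N] [IsCommMonObj N]

theorem lift_family (π : M₂ ⟶ M₃) [IsMonHom π] (hepi : Epi (CGrpSh.ptsMap K π)) {T : Over S} {κ : Type*} [Finite κ]
    (y : κ → (T ⟶ M₃)) :
    ∃ R ∈ QuotSh.J K S T, ∀ ⦃W : Over S⦄ (f : W ⟶ T), R f → ∀ i, ∃ x : W ⟶ M₂, x ≫ π = f ≫ y i :=
  cover_forall_fintype _ (fun i W f => ∃ x : W ⟶ M₂, x ≫ π = f ≫ y i) fun i => locSurj_of_epi π hepi T (y i)

theorem locSurj_powMap (π : M₂ ⟶ M₃) [IsMonHom π] (hepi : Epi (CGrpSh.ptsMap K π)) (n : ℕ) :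
    LocSurj (QuotSh.J K S) (powMap π n) := by
  intro T y
  obtain ⟨R, hR, h⟩ := lift_family (K := K) π hepi fun i => y ≫ proj i
  refine ⟨R, hR, fun W f hf => ?_⟩
  choose x hx using h f hf
  refine ⟨MultSch.tuple x, ?_⟩
  rw [tuple_powMap, funext hx, ← comp_tuple, tuple_eta]

theorem alternating_of_comp (π : M₂ ⟶ M₃) [IsMonHom π] (hepi : Epi (CGrpSh.ptsMap K π)) {r : ℕ}
    (φ : MultSch.pow M₃ r ⟶ N)
    (halt : ∀ (T : Over S) (x : Fin r → (T ⟶ M₂)) (i j : Fin r), i ≠ j → x i = x j →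
      MultSch.tuple (fun l => x l ≫ π) ≫ φ = 1) : MultSch.IsAlternating φ := by
  intro T y i l hil hy
  obtain ⟨R, hR, h⟩ := lift_family (K := K) π hepi y
  refine hom_ext_cover (QuotSh.J K S) hR fun W f hf => ?_
  choose x hx using h f hf
  have e : (fun m => f ≫ y m) = fun m => Function.update x l (x i) m ≫ π := funext fun m => by
    rcases eq_or_ne m l with rfl | hm
    · rw [Function.update_self, hx, hy]
    · rw [Function.update_of_ne hm, hx]
  rw [← Category.assoc, comp_tuple, e, MonObj.comp_one]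
  exact halt W _ i l hil (by rw [Function.update_of_ne hil, Function.update_self])

theorem exists_factor_alt {R : Type w} [CommRing R]
    (ρ₂ : MultSch.RMod R M₂) (ρ₃ : MultSch.RMod R M₃) (ρN : MultSch.RMod R N)
    (j : M₁ ⟶ M₂) (π : M₂ ⟶ M₃) [IsMonHom j] [IsMonHom π]
    (hπ : ∀ a : R, π ≫ ρ₃.act a = ρ₂.act a ≫ π)
    (w : j ≫ π = 1) (hex : (CGrpSh.seq K j π w).Exact)
    (hepi : Epi (CGrpSh.ptsMap K π))
    {n : ℕ} (hn : 1 ≤ n) (φ : MultSch.pow M₂ n ⟶ N)
    (hmult : MultSch.IsMultilinear φ) (hlin : MultSch.IsRLinear ρ₂ ρN φ) (halt : MultSch.IsAlternating φ)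
    (hvan : ∀ (T : Over S) (y : T ⟶ M₁) (x : Fin n → (T ⟶ M₂)), x ⟨0, hn⟩ = y ≫ j →
      MultSch.tuple x ≫ φ = 1) :
    ∃ φ' : MultSch.pow M₃ n ⟶ N,
      (∀ (T : Over S) (x : Fin n → (T ⟶ M₂)), MultSch.tuple x ≫ φ = MultSch.tuple (fun l => x l ≫ π) ≫ φ') ∧
      MultSch.IsMultilinear φ' ∧ MultSch.IsRLinear ρ₃ ρN φ' ∧ MultSch.IsAlternating φ' ∧
      ∀ φ'' : MultSch.pow M₃ n ⟶ N,
        (∀ (T : Over S) (x : Fin n → (T ⟶ M₂)), MultSch.tuple x ≫ φ = MultSch.tuple (fun l => x l ≫ π) ≫ φ'') →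
          φ'' = φ' := by
  classical
  have hker : ∀ (W : Over S) (x : Fin n → (W ⟶ M₂)) (i : Fin n), x i ≫ π = 1 → MultSch.tuple x ≫ φ = 1 := by
    intro W x i hi
    obtain ⟨R', hR', hz⟩ := lift_of_exact j π w hex (x i) hi
    refine hom_ext_cover (QuotSh.J K S) hR' fun V f hf => ?_
    obtain ⟨z, hz⟩ := hz f hf
    rw [← Category.assoc, comp_tuple, MonObj.comp_one]
    exact eq_one_of_image hmult halt hn hvan _ i z hz.symm
  have hind : ∀ (W : Over S) (x x' : W ⟶ MultSch.pow M₂ n), x ≫ powMap π n = x' ≫ powMap π n → x ≫ φ = x' ≫ φ := by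
    intro W g g' h
    obtain ⟨x, rfl⟩ : ∃ x : Fin n → (W ⟶ M₂), g = MultSch.tuple x := ⟨_, (tuple_eta g).symm⟩
    obtain ⟨x', rfl⟩ : ∃ x : Fin n → (W ⟶ M₂), g' = MultSch.tuple x := ⟨_, (tuple_eta g').symm⟩
    rw [tuple_powMap, tuple_powMap] at h
    have h' := congrFun (tuple_inj h)
    suffices ∀ s : Finset (Fin n), MultSch.tuple (s.piecewise x' x) ≫ φ = MultSch.tuple x ≫ φ by
      simpa using (this Finset.univ).symm
    intro s
    induction s using Finset.induction_on with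
    | empty => simp
    | insert i s hi ih =>
      rw [Finset.piecewise_insert, show x' i = x i * ((x i)⁻¹ * x' i) by simp, hmult, hker W (Function.update _ i ((x i)⁻¹ * x' i)) i (by
          rw [Function.update_self, MonObj.mul_comp, GrpObj.inv_comp, h' i, inv_mul_cancel]), _root_.mul_one]
      rw [show x i = s.piecewise x' x i by rw [Finset.piecewise_eq_of_notMem _ _ _ hi], Function.update_eq_self]
      exact ih
  obtain ⟨φ', hφ'⟩ := (locSurj_powMap (K := K) π hepi n).desc _ φ hind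
  have hchar : ∀ (T : Over S) (x : Fin n → (T ⟶ M₂)), MultSch.tuple x ≫ φ = MultSch.tuple (fun l => x l ≫ π) ≫ φ' :=
    fun T x => by rw [← tuple_powMap, Category.assoc, hφ']
  refine ⟨φ', hchar, ?_, ?_, ?_, ?_⟩
  · intro T x i y z
    obtain ⟨R', hR', h⟩ := lift_family (K := K) π hepi fun o : Option (Option (Fin n)) =>
      o.elim y fun o => o.elim z x
    refine hom_ext_cover (QuotSh.J K S) hR' fun W f hf => ?_
    choose l hl using h f hf
    let x' : Fin n → (W ⟶ M₂) := fun m => l (some (some m))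
    have e : ∀ (a : T ⟶ M₃) (a' : W ⟶ M₂), a' ≫ π = f ≫ a →
        f ≫ MultSch.tuple (Function.update x i a) ≫ φ' = MultSch.tuple (Function.update x' i a') ≫ φ := fun a a' ha => by
      rw [hchar, ← Category.assoc, comp_tuple]
      congr 2
      funext m
      rcases eq_or_ne m i with rfl | hm
      · rw [Function.update_self, Function.update_self, ha]
      · rw [Function.update_of_ne hm, Function.update_of_ne hm]; exact (hl (some (some m))).symm
    have hl0 : l none ≫ π = f ≫ y := hl none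
    have hl1 : l (some none) ≫ π = f ≫ z := hl (some none)
    rw [MonObj.comp_mul, e _ (l none * l (some none)) (by rw [MonObj.mul_comp, hl0, hl1, MonObj.comp_mul]),
      e _ (l none) hl0, e _ (l (some none)) hl1]
    exact hmult W x' i _ _
  · intro T x i a
    obtain ⟨R', hR', h⟩ := lift_family (K := K) π hepi x
    refine hom_ext_cover (QuotSh.J K S) hR' fun W f hf => ?_
    choose x' hx' using h f hf
    have h1 : f ≫ MultSch.tuple (Function.update x i (x i ≫ ρ₃.act a)) ≫ φ' =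
        MultSch.tuple (Function.update x' i (x' i ≫ ρ₂.act a)) ≫ φ := by
      rw [hchar, ← Category.assoc, comp_tuple]
      congr 2
      funext m
      rcases eq_or_ne m i with rfl | hm
      · rw [Function.update_self, Function.update_self, Category.assoc, ← hπ, ← Category.assoc, ← Category.assoc, hx']
      · rw [Function.update_of_ne hm, Function.update_of_ne hm, hx']
    have h2 : f ≫ MultSch.tuple x ≫ φ' = MultSch.tuple x' ≫ φ := by
      rw [hchar, ← Category.assoc, comp_tuple, funext hx']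
    rw [h1, hlin W x' i a, ← Category.assoc, h2]
  · exact alternating_of_comp π hepi φ' fun T x i l hil hx => by rw [← hchar]; exact halt T x i l hil hx
  · intro φ'' h''
    refine (locSurj_powMap (K := K) π hepi n).cancel _ ?_
    rw [hφ']
    have h := h'' _ (proj (M := M₂) (n := n))
    have e1 : MultSch.tuple (proj (M := M₂) (n := n)) = 𝟙 (MultSch.pow M₂ n) := by
      refine Eq.trans (congrArg MultSch.tuple (funext fun i => ?_)) (tuple_eta (𝟙 (MultSch.pow M₂ n)))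
      exact (Category.id_comp _).symm
    rw [e1, Category.id_comp] at h
    exact h.symm

theorem exists_factor_slot {R : Type w} [CommRing R] {P Q : Over S}
    (ρ : MultSch.RMod R M₂) (ρ'' : MultSch.RMod R M₃) (ρN : MultSch.RMod R N)
    (j : M₁ ⟶ M₂) (π : M₂ ⟶ M₃) [IsMonHom j] [IsMonHom π]
    (hπ : ∀ a : R, π ≫ ρ''.act a = ρ.act a ≫ π)
    (w : j ≫ π = 1) (hex : (CGrpSh.seq K j π w).Exact)
    (hepi : Epi (CGrpSh.ptsMap K π))
    (ψ : P ⊗ (M₂ ⊗ Q) ⟶ N)
    (hadd : ∀ (T : Over S) (p : T ⟶ P) (q : T ⟶ Q) (y z : T ⟶ M₂),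
      lift p (lift (y * z) q) ≫ ψ = (lift p (lift y q) ≫ ψ) * (lift p (lift z q) ≫ ψ))
    (hlin : ∀ (T : Over S) (p : T ⟶ P) (q : T ⟶ Q) (y : T ⟶ M₂) (a : R),
      lift p (lift (y ≫ ρ.act a) q) ≫ ψ = (lift p (lift y q) ≫ ψ) ≫ ρN.act a)
    (hvan : ∀ (T : Over S) (p : T ⟶ P) (q : T ⟶ Q) (y' : T ⟶ M₁), lift p (lift (y' ≫ j) q) ≫ ψ = 1) :
    ∃ ψ' : P ⊗ (M₃ ⊗ Q) ⟶ N,
      (P ◁ (π ▷ Q)) ≫ ψ' = ψ ∧
      (∀ (T : Over S) (p : T ⟶ P) (q : T ⟶ Q) (y z : T ⟶ M₃),
        lift p (lift (y * z) q) ≫ ψ' = (lift p (lift y q) ≫ ψ') * (lift p (lift z q) ≫ ψ')) ∧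
      (∀ (T : Over S) (p : T ⟶ P) (q : T ⟶ Q) (y : T ⟶ M₃) (a : R),
        lift p (lift (y ≫ ρ''.act a) q) ≫ ψ' = (lift p (lift y q) ≫ ψ') ≫ ρN.act a) ∧
      ∀ ψ'' : P ⊗ (M₃ ⊗ Q) ⟶ N, (P ◁ (π ▷ Q)) ≫ ψ'' = ψ → ψ'' = ψ' := by
  have hlw : ∀ {T : Over S} (p : T ⟶ P) (q : T ⟶ Q) (y : T ⟶ M₂),
      lift p (lift y q) ≫ (P ◁ (π ▷ Q)) = lift p (lift (y ≫ π) q) := fun p q y => by
    rw [lift_whiskerLeft, lift_whiskerRight]
  have heta : ∀ {M T : Over S} (g : T ⟶ P ⊗ (M ⊗ Q)),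
      g = lift (g ≫ fst P (M ⊗ Q)) (lift (g ≫ snd P (M ⊗ Q) ≫ fst M Q) (g ≫ snd P (M ⊗ Q) ≫ snd M Q)) := fun g => by
    apply CartesianMonoidalCategory.hom_ext
    · rw [lift_fst]
    · rw [lift_snd]
      apply CartesianMonoidalCategory.hom_ext
      · rw [lift_fst, Category.assoc]
      · rw [lift_snd, Category.assoc]
  have hsurj : LocSurj (QuotSh.J K S) (P ◁ (π ▷ Q)) := by
    intro T g
    obtain ⟨R', hR', h⟩ := locSurj_of_epi (K := K) π hepi T (g ≫ snd P (M₃ ⊗ Q) ≫ fst M₃ Q)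
    refine ⟨R', hR', fun W f hf => ?_⟩
    obtain ⟨x, hx⟩ := h f hf
    refine ⟨lift (f ≫ g ≫ fst P (M₃ ⊗ Q)) (lift x (f ≫ g ≫ snd P (M₃ ⊗ Q) ≫ snd M₃ Q)), ?_⟩
    rw [hlw, hx]
    conv_rhs => rw [heta g, comp_lift, comp_lift]
  have hind : ∀ (W : Over S) (x x' : W ⟶ P ⊗ (M₂ ⊗ Q)), x ≫ (P ◁ (π ▷ Q)) = x' ≫ (P ◁ (π ▷ Q)) → x ≫ ψ = x' ≫ ψ := by
    intro W g g' h
    rw [heta g, heta g'] at h ⊢
    generalize g ≫ fst P (M₂ ⊗ Q) = p, g ≫ snd P (M₂ ⊗ Q) ≫ fst M₂ Q = x, g ≫ snd P (M₂ ⊗ Q) ≫ snd M₂ Q = q,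
      g' ≫ fst P (M₂ ⊗ Q) = p', g' ≫ snd P (M₂ ⊗ Q) ≫ fst M₂ Q = x', g' ≫ snd P (M₂ ⊗ Q) ≫ snd M₂ Q = q' at h ⊢
    rw [hlw, hlw] at h
    obtain rfl : p = p' := by simpa using congrArg (fun t => t ≫ fst P (M₃ ⊗ Q)) h
    have h2 := congrArg (fun t => t ≫ snd P (M₃ ⊗ Q)) h
    simp only [lift_snd] at h2
    obtain rfl : q = q' := by simpa using congrArg (fun t => t ≫ snd M₃ Q) h2
    have hx : x ≫ π = x' ≫ π := by simpa using congrArg (fun t => t ≫ fst M₃ Q) h2
    have hd : lift p (lift (x⁻¹ * x') q) ≫ ψ = 1 := by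
      obtain ⟨R', hR', hz⟩ := lift_of_exact j π w hex (x⁻¹ * x')
        (by rw [MonObj.mul_comp, GrpObj.inv_comp, hx, inv_mul_cancel])
      refine hom_ext_cover (QuotSh.J K S) hR' fun V f hf => ?_
      obtain ⟨z, hz⟩ := hz f hf
      rw [← Category.assoc, comp_lift, comp_lift, ← hz, hvan, MonObj.comp_one]
    rw [show x' = x * (x⁻¹ * x') by simp, hadd, hd, _root_.mul_one]
  obtain ⟨ψ', hψ'⟩ := hsurj.desc _ ψ hind
  have hchar : ∀ {T : Over S} (p : T ⟶ P) (q : T ⟶ Q) (y : T ⟶ M₂),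
      lift p (lift y q) ≫ ψ = lift p (lift (y ≫ π) q) ≫ ψ' := fun p q y => by
    rw [← hlw, Category.assoc, hψ']
  refine ⟨ψ', hψ', ?_, ?_, fun ψ'' h => hsurj.cancel _ (h.trans hψ'.symm)⟩
  · intro T p q y z
    obtain ⟨R', hR', h⟩ := lift_family (K := K) π hepi fun b : Bool => cond b y z
    refine hom_ext_cover (QuotSh.J K S) hR' fun W f hf => ?_
    choose l hl using h f hf
    have e : ∀ (a : T ⟶ M₃) (a' : W ⟶ M₂), a' ≫ π = f ≫ a →
        f ≫ lift p (lift a q) ≫ ψ' = lift (f ≫ p) (lift a' (f ≫ q)) ≫ ψ := fun a a' ha => by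
      rw [hchar, ha, ← Category.assoc, comp_lift, comp_lift]
    have hl0 : l true ≫ π = f ≫ y := hl true
    have hl1 : l false ≫ π = f ≫ z := hl false
    rw [MonObj.comp_mul, e _ (l true * l false) (by rw [MonObj.mul_comp, hl0, hl1, MonObj.comp_mul]),
      e _ (l true) hl0, e _ (l false) hl1, hadd]
  · intro T p q y a
    obtain ⟨R', hR', h⟩ := locSurj_of_epi (K := K) π hepi T y
    refine hom_ext_cover (QuotSh.J K S) hR' fun W f hf => ?_
    obtain ⟨l, hl⟩ := h f hf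
    have e : ∀ (b : T ⟶ M₃) (b' : W ⟶ M₂), b' ≫ π = f ≫ b →
        f ≫ lift p (lift b q) ≫ ψ' = lift (f ≫ p) (lift b' (f ≫ q)) ≫ ψ := fun b b' hb => by
      rw [hchar, hb, ← Category.assoc, comp_lift, comp_lift]
    rw [e _ (l ≫ ρ.act a) (by rw [Category.assoc, ← hπ, ← Category.assoc, hl, Category.assoc]),
      ← Category.assoc f _ (ρN.act a), e _ l hl, hlin]

end Scheme

end Groth.Agent.MultSchFac
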